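import Mathlib

/-!
Jordan's counting argument, abstractly: if centralizers of noncentral elements are nearly abelian and
large maximal abelian subgroups are rigid, then some abelian subgroup has bounded index.
-/

set_option autoImplicit false

namespace CfsgLib.JordanModular

open Pointwise

/-- `1 - 1/g` is not a small denominator fraction minus few larger unit fractions. -/
theorem egyptian : ∀ k D : ℕ, ∃ B : ℕ, ∀ (a g : ℕ) (s : List ℕ), s.length ≤ k → 0 < g → (∀ x ∈ s, 0 < x ∧ x < g) →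
    (1 : ℚ) - 1 / g = a / D - (s.map fun x : ℕ => 1 / (x : ℚ)).sum → g ≤ B := by
  intro k
  induction k with
  | zero =>
    intro D
    refine ⟨D + 1, fun a g s hs hg _ h => ?_⟩
    rw [List.length_eq_zero_iff.1 (Nat.le_zero.1 hs)] at h
    simp only [List.map_nil, List.sum_nil, sub_zero] at h
    rcases Nat.eq_zero_or_pos D with rfl | hD
    · simp only [Nat.cast_zero, div_zero, sub_eq_zero] at h
      have : g = 1 := by
        have hg' : (g : ℚ) ≠ 0 := Nat.cast_ne_zero.2 hg.ne'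
        field_simp at h
        exact_mod_cast h
      omega
    have hgq : (g : ℚ) ≠ 0 := Nat.cast_ne_zero.2 hg.ne'
    have hDq : (D : ℚ) ≠ 0 := Nat.cast_ne_zero.2 hD.ne'
    field_simp at h
    have h' : a * g + D = D * g := by
      have : (a : ℚ) * g + D = D * g := by linear_combination -h
      exact_mod_cast this
    refine Nat.le_succ_of_le (Nat.le_of_dvd hD ?_)
    exact (Nat.dvd_add_right (dvd_mul_left g a)).1 (h'.symm ▸ dvd_mul_left g D)
  | succ k ih =>
    intro D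
    obtain ⟨B0, hB0⟩ := ih D
    obtain ⟨B1, hB1⟩ := ih (D * ((k + 1) * D).factorial)
    refine ⟨max B0 B1, fun a g s hs hg hsg h => ?_⟩
    rcases Nat.lt_or_ge s.length (k + 1) with hlt | hge
    · exact (hB0 a g s (by omega) hg hsg h).trans (le_max_left _ _)
    rcases Nat.eq_zero_or_pos D with rfl | hD
    · exfalso
      simp only [Nat.cast_zero, div_zero, zero_sub] at h
      have h1 : (1 : ℚ) / g ≤ 1 := by
        rw [div_le_one (by exact_mod_cast hg)]; exact_mod_cast hg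
      have h2 : 0 < (s.map fun x : ℕ => 1 / (x : ℚ)).sum := by
        refine List.sum_pos _ (fun y hy => ?_) ?_
        · obtain ⟨x, hx, rfl⟩ := List.mem_map.1 hy
          have := (hsg x hx).1
          positivity
        · intro e
          rw [List.map_eq_nil_iff] at e
          rw [e] at hge; simp at hge
      linarith
    obtain ⟨x, hx, hxs⟩ : ∃ x ∈ s, x ≤ (k + 1) * D := by
      by_contra hno
      push Not at hno
      have hpos : 0 < (k + 1) * D := Nat.mul_pos k.succ_pos hD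
      have hle : (s.map fun x : ℕ => 1 / (x : ℚ)).sum ≤ s.length • (1 / (((k + 1) * D : ℕ) : ℚ)) := by
        refine (List.sum_le_card_nsmul _ _ fun y hy => ?_).trans (by rw [List.length_map])
        obtain ⟨x, hx, rfl⟩ := List.mem_map.1 hy
        exact one_div_le_one_div_of_le (by exact_mod_cast hpos) (by exact_mod_cast (hno x hx).le)
      have hlen : s.length = k + 1 := by omega
      rw [hlen, nsmul_eq_mul] at hle
      have hDq : (0 : ℚ) < D := by exact_mod_cast hD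
      have hle' : (s.map fun x : ℕ => 1 / (x : ℚ)).sum ≤ 1 / D := by
        refine hle.trans (le_of_eq ?_)
        push_cast
        field_simp
      have hgt : (1 : ℚ) / g < (s.map fun x : ℕ => 1 / (x : ℚ)).sum := by
        obtain ⟨y, hy⟩ : ∃ y, y ∈ s := List.exists_mem_of_length_pos (by omega)
        have hyg : (1 : ℚ) / g < 1 / y := one_div_lt_one_div_of_lt (by exact_mod_cast (hsg y hy).1)
          (by exact_mod_cast (hsg y hy).2)
        refine hyg.trans_le (List.single_le_sum (fun z hz => ?_) _ (List.mem_map.2 ⟨y, hy, rfl⟩))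
        obtain ⟨x, hx, rfl⟩ := List.mem_map.1 hz
        positivity
      have h1 : (D : ℚ) < a := by
        have : (1 : ℚ) < a / D := by linarith
        rwa [one_lt_div hDq] at this
      have h2 : (D : ℚ) + 1 ≤ a := by exact_mod_cast (Nat.succ_le_of_lt (by exact_mod_cast h1 : D < a))
      have h3 : 1 + 1 / (D : ℚ) ≤ a / D := by
        rw [le_div_iff₀ hDq, add_mul, one_mul, div_mul_cancel₀ _ hDq.ne']; exact h2
      have : (0 : ℚ) < 1 / g := by positivity
      linarith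
    set N := ((k + 1) * D).factorial
    obtain ⟨r, hr⟩ : x ∣ N := Nat.dvd_factorial (hsg x hx).1 hxs
    have hperm := ((List.perm_cons_erase hx).map fun x : ℕ => 1 / (x : ℚ)).sum_eq
    rw [List.map_cons, List.sum_cons] at hperm
    have hxq : (x : ℚ) ≠ 0 := Nat.cast_ne_zero.2 (hsg x hx).1.ne'
    have hNq : (N : ℚ) ≠ 0 := Nat.cast_ne_zero.2 (Nat.factorial_pos _).ne'
    have hDq : (D : ℚ) ≠ 0 := Nat.cast_ne_zero.2 hD.ne'
    have hfrac : (a : ℚ) / D - 1 / x = ((a * N : ℕ) - (D * r : ℕ) : ℚ) / (D * N : ℕ) := by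
      have hNr : (N : ℚ) = x * r := by exact_mod_cast hr
      have hrq : (r : ℚ) ≠ 0 := fun e => hNq (by rw [hNr, e, mul_zero])
      push_cast
      rw [hNr]
      field_simp
    have hrest : (1 : ℚ) - 1 / g = ((a * N : ℕ) - (D * r : ℕ) : ℚ) / (D * N : ℕ) -
        ((s.erase x).map fun x : ℕ => 1 / (x : ℚ)).sum := by
      rw [← hfrac, h, hperm]; ring
    have hle : D * r ≤ a * N := by
      by_contra hlt
      push Not at hlt
      have hq : ((a * N : ℕ) : ℚ) < (D * r : ℕ) := by exact_mod_cast hlt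
      have h1 : ((a * N : ℕ) - (D * r : ℕ) : ℚ) / (D * N : ℕ) < 0 :=
        div_neg_of_neg_of_pos (by linarith) (by exact_mod_cast Nat.mul_pos hD (Nat.factorial_pos _))
      have h2 : (1 : ℚ) / g ≤ 1 := by
        rw [div_le_one (by exact_mod_cast hg)]; exact_mod_cast hg
      have h3 : 0 ≤ ((s.erase x).map fun x : ℕ => 1 / (x : ℚ)).sum := List.sum_nonneg fun y hy => by
        obtain ⟨x, hx, rfl⟩ := List.mem_map.1 hy
        positivity
      linarith
    refine (hB1 (a * N - D * r) g (s.erase x) ?_ hg (fun y hy => hsg y (List.mem_of_mem_erase hy)) ?_).trans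
      (le_max_right _ _)
    · rw [List.length_erase_of_mem hx]; omega
    · rw [Nat.cast_sub hle]; exact hrest

section Group

variable {G : Type*} [Group G] [Finite G]

/-- All but a bounded part of `H` lies in `K`. -/
def Near (r : ℕ) (H K : Subgroup G) : Prop := Nat.card H ≤ r * Nat.card (H ⊓ K : Subgroup G)

theorem card_inf_mul_relIndex (H K : Subgroup G) :
    Nat.card (H ⊓ K : Subgroup G) * K.relIndex H = Nat.card H := by
  rw [Subgroup.relIndex, ← Nat.card_congr (Subgroup.subgroupOfEquivOfLe (inf_le_left : H ⊓ K ≤ H)).toEquiv,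
    Subgroup.inf_subgroupOf_left, Subgroup.card_mul_index]

theorem near_iff {r : ℕ} {H K : Subgroup G} : Near r H K ↔ K.relIndex H ≤ r := by
  rw [Near, ← card_inf_mul_relIndex H K, mul_comm r]
  exact Nat.mul_le_mul_left_iff Nat.card_pos

theorem Near.mono {r : ℕ} {H H' K : Subgroup G} (h : Near r H K) (hH : H' ≤ H) : Near r H' K :=
  near_iff.2 ((Subgroup.relIndex_le_of_le_right hH Subgroup.index_ne_zero_of_finite).trans
    (near_iff.1 h))

theorem exists_notMem_of_card_lt {H Z : Subgroup G} (h : Nat.card Z < Nat.card H) : ∃ x ∈ H, x ∉ Z := by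
  by_contra hno
  push Not at hno
  exact absurd (Subgroup.card_le_of_le (H := H) (K := Z) hno) (not_le.2 h)

/-- The conjugate subgroup. -/
abbrev cj (g : G) (T : Subgroup G) : Subgroup G := MulAut.conj g • T

omit [Finite G] in
theorem mem_cj {g x : G} {T : Subgroup G} : x ∈ cj g T ↔ g⁻¹ * x * g ∈ T := by
  rw [cj, Subgroup.mem_pointwise_smul_iff_inv_smul_mem]
  simp [MulAut.smul_def]

theorem card_cj (g : G) (T : Subgroup G) : Nat.card (cj g T) = Nat.card T :=
  Nat.card_congr (Subgroup.equivSMul (MulAut.conj g) T).symm.toEquiv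

omit [Finite G] in
theorem cj_mul (g h : G) (T : Subgroup G) : cj (g * h) T = cj g (cj h T) := by
  rw [cj, cj, cj, map_mul, mul_smul]

omit [Finite G] in
theorem cj_inf (g : G) (H K : Subgroup G) : cj g (H ⊓ K) = cj g H ⊓ cj g K := Subgroup.smul_inf _ _ _

omit [Finite G] in
theorem centralizer_cj (g x : G) :
    Subgroup.centralizer ({g * x * g⁻¹} : Set G) = cj g (Subgroup.centralizer {x}) := by
  ext y
  rw [mem_cj, Subgroup.mem_centralizer_singleton_iff, Subgroup.mem_centralizer_singleton_iff]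
  constructor
  · intro h
    calc g⁻¹ * y * g * x = g⁻¹ * (y * (g * x * g⁻¹)) * g := by group
      _ = g⁻¹ * ((g * x * g⁻¹) * y) * g := by rw [h]
      _ = x * (g⁻¹ * y * g) := by group
  · intro h
    calc y * (g * x * g⁻¹) = g * (g⁻¹ * y * g * x) * g⁻¹ := by group
      _ = g * (x * (g⁻¹ * y * g)) * g⁻¹ := by rw [h]
      _ = (g * x * g⁻¹) * y := by group

end Group

/-- The hypotheses of the counting argument. -/
structure Setting (G : Type*) [Group G] (f e c : ℕ) where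
  Z : Subgroup G
  central : Z ≤ Subgroup.center G
  nearly : ∀ x, x ∉ Z → ∃ A : Subgroup G, IsMulCommutative A ∧ x ∈ A ∧
    A ≤ Subgroup.centralizer {x} ∧ Nat.card (Subgroup.centralizer ({x} : Set G)) ≤ f * Nat.card A
  twist : ∀ x, Nat.card {z : Z // IsConj x (x * (z : G))} ≤ e
  rigid : ∀ T : Subgroup G, IsMulCommutative T → (∀ A : Subgroup G, IsMulCommutative A → T ≤ A → A = T) →
    ∀ S : Subgroup G, (∀ g ∈ S, Near f T (cj g T)) →
      ∃ D : Subgroup G, D ≤ T ∧ (∀ g ∈ S, cj g D = D) ∧ Near c T D ∧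
        (Subgroup.centralizer (D : Set G)).relIndex S ≤ e

section Counting

variable {f e c : ℕ}

/-- The state of the recursion. -/
structure Closed {G : Type*} [Group G] (𝒮 : Setting G f e c) (θ : ℕ) (R : Set G) : Prop where
  outside : ∀ x ∈ R, x ∉ 𝒮.Z
  conj : ∀ x ∈ R, ∀ g : G, g * x * g⁻¹ ∈ R
  zmul : ∀ x ∈ R, ∀ z ∈ 𝒮.Z, x * z ∈ R
  closed : ∀ x ∈ R, ∀ A : Subgroup G, IsMulCommutative A → x ∈ A → θ * Nat.card 𝒮.Z < Nat.card A →
    ∀ y ∈ A, y ∉ 𝒮.Z → y ∈ R

/-- The conclusion for a remaining set. -/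
def Counted {G : Type*} [Group G] (𝒮 : Setting G f e c) (k D : ℕ) (R : Set G) : Prop :=
  (∃ A : Subgroup G, IsMulCommutative A ∧ A.index ≤ e * f) ∨
    ∃ (a : ℕ) (s : List ℕ), s.length ≤ k ∧ (∀ x ∈ s, 0 < x ∧ x < 𝒮.Z.index) ∧
      (Nat.card R : ℚ) / Nat.card G = a / D - (s.map fun x : ℕ => 1 / (x : ℚ)).sum

theorem centralizer_mul_central {G : Type*} [Group G] {x z : G} (hz : z ∈ Subgroup.center G) :
    Subgroup.centralizer ({x * z} : Set G) = Subgroup.centralizer {x} := by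
  ext y
  rw [Subgroup.mem_centralizer_singleton_iff, Subgroup.mem_centralizer_singleton_iff, ← mul_assoc,
    mul_assoc x z y, ← Subgroup.mem_center_iff.1 hz y, ← mul_assoc x y z, mul_left_inj]

theorem small_case {G : Type*} [Group G] [Finite G] (𝒮 : Setting G f e c) {θ : ℕ} {R : Set G}
    (hR : Closed 𝒮 θ R) (Θ : ℕ)
    (hsmall : ∀ x ∈ R, Nat.card (Subgroup.centralizer ({x} : Set G)) ≤ Θ * Nat.card 𝒮.Z) :
    ∃ a : ℕ, (Nat.card R : ℚ) / Nat.card G = a / (Θ * e).factorial := by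
  classical
  haveI := Fintype.ofFinite G
  haveI hN : 𝒮.Z.Normal := ⟨fun z hz g => by
    rw [Subgroup.mem_center_iff.1 (𝒮.central hz) g, mul_inv_cancel_right]; exact hz⟩
  haveI := Fintype.ofFinite (ConjClasses (G ⧸ 𝒮.Z))
  suffices h : Nat.card G ∣ (Θ * e).factorial * Nat.card R by
    obtain ⟨a, ha⟩ := h
    refine ⟨a, ?_⟩
    have hG : (Nat.card G : ℚ) ≠ 0 := Nat.cast_ne_zero.2 Nat.card_pos.ne'
    have hf : ((Θ * e).factorial : ℚ) ≠ 0 := Nat.cast_ne_zero.2 (Nat.factorial_pos _).ne'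
    have ha' : ((Θ * e).factorial : ℚ) * Nat.card R = Nat.card G * a := by exact_mod_cast ha
    rw [div_eq_div_iff hG hf]
    linear_combination ha'
  let π : G → ConjClasses (G ⧸ 𝒮.Z) := fun x => ConjClasses.mk (x : G ⧸ 𝒮.Z)
  have hR' : Nat.card R = ∑ C : ConjClasses (G ⧸ 𝒮.Z), Nat.card {x : G // x ∈ R ∧ π x = C} := by
    simp only [Nat.card_eq_fintype_card, Fintype.card_subtype]
    rw [Finset.card_eq_sum_card_fiberwise (f := π) (t := Finset.univ) fun x _ => Finset.mem_univ _]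
    refine Finset.sum_congr rfl fun C _ => congrArg Finset.card ?_
    ext x
    simp
  rw [hR', Finset.mul_sum]
  refine Finset.dvd_sum fun C _ => ?_
  rcases isEmpty_or_nonempty {x : G // x ∈ R ∧ π x = C} with h | ⟨⟨x, hxR, rfl⟩⟩
  · simp
  set xb : G ⧸ 𝒮.Z := (x : G ⧸ 𝒮.Z) with hxb
  let O := MulAction.orbit (ConjAct (G ⧸ 𝒮.Z)) xb
  have hfib : {y : G | y ∈ R ∧ π y = π x} = QuotientGroup.mk ⁻¹' O := by
    ext y
    simp only [Set.mem_ofPred_eq, Set.mem_preimage, O, ConjAct.mem_orbit_conjAct, π,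
      ConjClasses.mk_eq_mk_iff_isConj]
    refine ⟨fun h => h.2, fun h => ⟨?_, h⟩⟩
    obtain ⟨g, hg⟩ := isConj_iff.1 h.symm
    obtain ⟨g, rfl⟩ := QuotientGroup.mk_surjective g
    rw [hxb, ← QuotientGroup.mk_inv, ← QuotientGroup.mk_mul, ← QuotientGroup.mk_mul, QuotientGroup.eq] at hg
    have := hR.zmul _ (hR.conj x hxR g) _ hg
    rwa [mul_inv_cancel_left] at this
  rw [show Nat.card {y : G // y ∈ R ∧ π y = π x} = Nat.card ↥{y : G | y ∈ R ∧ π y = π x} from rfl, hfib,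
    Nat.card_congr (QuotientGroup.preimageMkEquivSubgroupProdSet 𝒮.Z O), Nat.card_prod]
  set Kb := MulAction.stabilizer (ConjAct (G ⧸ 𝒮.Z)) xb
  have hQ : Nat.card O * Nat.card Kb = Nat.card (G ⧸ 𝒮.Z) := by
    rw [show Nat.card O = Kb.index from (MulAction.index_stabilizer _ _).symm.trans rfl, Subgroup.index_mul_card]
    rfl
  have hd : Nat.card Kb ≤ Θ * e := by
    let N : Subgroup G :=
      Kb.comap ((ConjAct.toConjAct : G ⧸ 𝒮.Z ≃* ConjAct (G ⧸ 𝒮.Z)).toMonoidHom.comp (QuotientGroup.mk' 𝒮.Z))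
    have hNcard : Nat.card N = Nat.card 𝒮.Z * Nat.card Kb := by
      rw [← Nat.card_prod]
      refine Nat.card_congr ((QuotientGroup.preimageMkEquivSubgroupProdSet 𝒮.Z
        (ConjAct.toConjAct ⁻¹' (Kb : Set (ConjAct (G ⧸ 𝒮.Z))))).trans (Equiv.prodCongr (Equiv.refl _) ?_))
      exact ConjAct.toConjAct.toEquiv.subtypeEquiv fun _ => Iff.rfl
    have hv : ∀ g : N, x⁻¹ * ((g : G) * x * (g : G)⁻¹) ∈ 𝒮.Z := fun g => by
      have h : ConjAct.toConjAct ((g : G) : G ⧸ 𝒮.Z) • xb = xb := g.2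
      rw [ConjAct.toConjAct_smul, hxb, ← QuotientGroup.mk_inv, ← QuotientGroup.mk_mul, ← QuotientGroup.mk_mul,
        eq_comm, QuotientGroup.eq] at h
      exact h
    let v : N → {z : 𝒮.Z // IsConj x (x * (z : G))} := fun g =>
      ⟨⟨_, hv g⟩, isConj_iff.2 ⟨g, (mul_inv_cancel_left x _).symm⟩⟩
    have hC : ∀ g : N, ∀ h : N, v g = v h → (h : G)⁻¹ * g ∈ Subgroup.centralizer ({x} : Set G) := by
      intro g h hgh
      have h1 : x⁻¹ * ((g : G) * x * (g : G)⁻¹) = x⁻¹ * ((h : G) * x * (h : G)⁻¹) :=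
        congrArg (fun w : {z : 𝒮.Z // IsConj x (x * (z : G))} => (w.1 : G)) hgh
      rw [mul_right_inj] at h1
      rw [Subgroup.mem_centralizer_singleton_iff]
      calc (h : G)⁻¹ * g * x = (h : G)⁻¹ * ((g : G) * x * (g : G)⁻¹) * g := by group
        _ = (h : G)⁻¹ * ((h : G) * x * (h : G)⁻¹) * g := by rw [h1]
        _ = x * ((h : G)⁻¹ * g) := by group
    let w : N → {z : 𝒮.Z // IsConj x (x * (z : G))} × Subgroup.centralizer ({x} : Set G) := fun g =>
      (v g, if h : ∃ r, v r = v g then ⟨_, hC g h.choose h.choose_spec.symm⟩ else 1)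
    have hw : Function.Injective w := by
      intro g h hgh
      simp only [w, Prod.mk.injEq] at hgh
      obtain ⟨h1, h2⟩ := hgh
      have e1 : ∃ r, v r = v g := ⟨g, rfl⟩
      have e2 : ∃ r, v r = v h := ⟨h, rfl⟩
      rw [dif_pos e1, dif_pos e2, Subtype.mk.injEq] at h2
      simp only [h1] at h2
      exact Subtype.ext (mul_left_cancel h2)
    have h1 := Nat.card_le_card_of_injective w hw
    rw [hNcard, Nat.card_prod] at h1
    refine Nat.le_of_mul_le_mul_left ?_ (Nat.card_pos (α := 𝒮.Z))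
    calc Nat.card 𝒮.Z * Nat.card Kb
        ≤ e * (Θ * Nat.card 𝒮.Z) := h1.trans (Nat.mul_le_mul (𝒮.twist x) (hsmall x hxR))
      _ = Nat.card 𝒮.Z * (Θ * e) := by ring
  have hG : Nat.card G = Nat.card 𝒮.Z * (Nat.card O * Nat.card Kb) := by
    rw [hQ, Subgroup.card_eq_card_quotient_mul_card_subgroup 𝒮.Z, mul_comm]
  obtain ⟨r, hr⟩ := Nat.dvd_factorial (Nat.card_pos (α := Kb)) hd
  rw [hG, hr]
  exact ⟨r, by ring⟩

/-- One level: the elements that nearly centralize a big rigid subgroup. -/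
theorem step {G : Type*} [Group G] [Finite G] (𝒮 : Setting G f e c) (he : 0 < e) (hf : 0 < f) (hc : 0 < c)
    {θ : ℕ} {R : Set G} (hR : Closed 𝒮 θ R) {x₀ : G} (hx₀ : x₀ ∈ R)
    (hbig : f * (c * (f * (θ + f + 2)) * (f + 1) + f * f + θ + 1) * Nat.card 𝒮.Z <
      Nat.card (Subgroup.centralizer ({x₀} : Set G))) :
    (∃ A : Subgroup G, IsMulCommutative A ∧ A.index ≤ e * f) ∨
      ∃ (U : Set G) (a s : ℕ), U ⊆ R ∧ Closed 𝒮 (f * f * c * (f * (θ + f + 2)) + θ) (R \ U) ∧
        Nat.card G ≤ 2 * e * Nat.card U ∧ 0 < s ∧ s < 𝒮.Z.index ∧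
        (Nat.card U : ℚ) / Nat.card G = a / e.factorial - 1 / s := by
  classical
  set z := Nat.card 𝒮.Z with hzdef
  have hz : 0 < z := Nat.card_pos
  set ψ := f * (θ + f + 2) with hψ
  have hψθ : f * θ ≤ ψ := Nat.mul_le_mul_left f (by omega)
  have hψf : f * f ≤ ψ := Nat.mul_le_mul_left f (by omega)
  have hψ2 : 2 ≤ ψ := le_trans (by omega : 2 ≤ θ + f + 2) (Nat.le_mul_of_pos_left _ hf)
  -- the largest abelian subgroup through `R`
  obtain ⟨A₀, hA₀c, hxA₀, -, hA₀⟩ := 𝒮.nearly x₀ (hR.outside x₀ hx₀)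
  set Θ := c * ψ * (f + 1) + f * f + θ + 1 with hΘ
  have hA₀big : Θ * z < Nat.card A₀ := by
    refine lt_of_mul_lt_mul_left (a := f) ?_ (Nat.zero_le f)
    calc f * (Θ * z) = f * Θ * z := (mul_assoc _ _ _).symm
      _ < _ := hbig
      _ ≤ _ := hA₀
  have hθΘ : θ * z ≤ Θ * z := Nat.mul_le_mul_right z (by omega)
  obtain ⟨T, ⟨hTc, hTbig, xT, hxT, hxTR⟩, hTmax'⟩ := Set.exists_max_image
    {A : Subgroup G | IsMulCommutative A ∧ θ * z < Nat.card A ∧ ∃ x ∈ A, x ∈ R} (fun A => Nat.card A)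
    (Set.toFinite _) ⟨A₀, hA₀c, hθΘ.trans_lt hA₀big, x₀, hxA₀, hx₀⟩
  have hTΘ : Θ * z < Nat.card T :=
    hA₀big.trans_le (hTmax' A₀ ⟨hA₀c, hθΘ.trans_lt hA₀big, x₀, hxA₀, hx₀⟩)
  have hTmax : ∀ A : Subgroup G, IsMulCommutative A → T ≤ A → A = T := fun A hA hTA =>
    (Subgroup.eq_of_le_of_card_ge hTA (hTmax' A ⟨hA, hTbig.trans_le (Subgroup.card_le_of_le hTA),
      xT, hTA hxT, hxTR⟩)).symm
  have hTR : ∀ y ∈ T, y ∉ 𝒮.Z → y ∈ R := fun y hy => hR.closed xT hxTR T hTc hxT hTbig y hy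
  have hTcomm : ∀ a ∈ T, ∀ b ∈ T, a * b = b * a := fun a ha b hb =>
    congrArg Subtype.val (hTc.is_comm.comm ⟨a, ha⟩ ⟨b, hb⟩)
  have hnearC : ∀ y ∈ T, y ∉ 𝒮.Z → Nat.card (Subgroup.centralizer ({y} : Set G)) ≤ f * Nat.card T := by
    intro y hy hyZ
    obtain ⟨A, hAc, hyA, -, hA⟩ := 𝒮.nearly y hyZ
    refine hA.trans (Nat.mul_le_mul_left f ?_)
    rcases lt_or_ge (θ * z) (Nat.card A) with h | h
    · exact hTmax' A ⟨hAc, h, y, hyA, hTR y hy hyZ⟩
    · exact h.trans hTbig.le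
  -- conjugates of `T` and their centralizers
  have hcjC : ∀ g y, y ∈ cj g T → y ∉ 𝒮.Z → cj g T ≤ Subgroup.centralizer {y} ∧
      Near f (Subgroup.centralizer ({y} : Set G)) (cj g T) := by
    intro g y hy hyZ
    rw [mem_cj] at hy
    have hy' : g⁻¹ * y * g ∉ 𝒮.Z := fun h => hyZ (by
      have e1 := Subgroup.mem_center_iff.1 (𝒮.central h) g
      have e2 : y = g⁻¹ * y * g := mul_left_cancel (a := g⁻¹) (mul_right_cancel (b := g) (by
        calc g⁻¹ * y * g = g⁻¹ * (g * (g⁻¹ * y * g) * g⁻¹) * g := by group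
          _ = g⁻¹ * (g⁻¹ * y * g) * g := by rw [e1, mul_inv_cancel_right]))
      rw [e2]; exact h)
    have hle : T ≤ Subgroup.centralizer {g⁻¹ * y * g} := fun t ht =>
      Subgroup.mem_centralizer_singleton_iff.2 (hTcomm t ht _ hy)
    have heq : Subgroup.centralizer ({y} : Set G) = cj g (Subgroup.centralizer {g⁻¹ * y * g}) := by
      rw [← centralizer_cj]; congr; group
    rw [heq]
    refine ⟨Subgroup.pointwise_smul_le_pointwise_smul_iff.2 hle, ?_⟩
    rw [Near, ← cj_inf, card_cj, card_cj, inf_eq_right.2 hle]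
    exact hnearC _ hy hy'
  have hmeet : ∀ g y, y ∈ T → y ∈ cj g T → y ∉ 𝒮.Z → Near f T (cj g T) := fun g y h1 h2 h3 =>
    (hcjC g y h2 h3).2.mono fun t ht => Subgroup.mem_centralizer_singleton_iff.2 (hTcomm t ht y h1)
  have hnormZ : ∀ g y : G, y ∉ 𝒮.Z → g⁻¹ * y * g ∉ 𝒮.Z := fun g y hy h => hy (by
    have e1 := Subgroup.mem_center_iff.1 (𝒮.central h) g
    rw [show y = g * (g⁻¹ * y * g) * g⁻¹ by group, e1, mul_inv_cancel_right]
    exact h)
  have hΘf : f * f ≤ Θ := by omega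
  have hffT : f * f * z < Nat.card T := lt_of_le_of_lt (Nat.mul_le_mul_right z hΘf) hTΘ
  have hTz : z < Nat.card T :=
    lt_of_le_of_lt (Nat.le_mul_of_pos_left z (Nat.mul_pos hf hf)) hffT
  let S : Subgroup G :=
    { carrier := {g | ∃ y, y ∈ T ∧ y ∈ cj g T ∧ y ∉ 𝒮.Z}
      one_mem' := by
        obtain ⟨y, hy, hyZ⟩ := exists_notMem_of_card_lt hTz
        exact ⟨y, hy, by rw [mem_cj]; simpa using hy, hyZ⟩
      mul_mem' := by
        rintro g h ⟨y, hy1, hy2, hy3⟩ ⟨w, hw1, hw2, hw3⟩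
        have n1 := hmeet g y hy1 hy2 hy3
        have n2 := hmeet h w hw1 hw2 hw3
        have n2' : Near f (cj g T) (cj (g * h) T) := by
          rw [Near, cj_mul, ← cj_inf, card_cj, card_cj]; exact n2
        have n3 := n2'.mono (inf_le_right : T ⊓ cj g T ≤ cj g T)
        have hle : Nat.card T ≤ f * f * Nat.card (T ⊓ cj g T ⊓ cj (g * h) T : Subgroup G) := by
          rw [mul_assoc]; exact n1.trans (Nat.mul_le_mul_left f n3)
        obtain ⟨v, hv, hvZ⟩ := exists_notMem_of_card_lt (lt_of_mul_lt_mul_left (hffT.trans_le hle) (Nat.zero_le _))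
        exact ⟨v, hv.1.1, hv.2, hvZ⟩
      inv_mem' := by
        rintro g ⟨y, hy1, hy2, hy3⟩
        refine ⟨g⁻¹ * y * g, mem_cj.1 hy2, ?_, hnormZ g y hy3⟩
        rw [mem_cj]
        simpa [mul_assoc] using hy1 }
  obtain ⟨D, hDT, hDS, hDc, hDe⟩ := 𝒮.rigid T hTc hTmax S fun g ⟨y, h1, h2, h3⟩ => hmeet g y h1 h2 h3
  have hDbig : ψ * z < Nat.card D := by
    refine lt_of_mul_lt_mul_left (a := c) ?_ (Nat.zero_le c)
    calc c * (ψ * z) ≤ Θ * z := by
          rw [← mul_assoc]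
          have h1 : c * ψ ≤ c * ψ * (f + 1) := Nat.le_mul_of_pos_right _ (Nat.succ_pos f)
          exact Nat.mul_le_mul_right z (by omega : c * ψ ≤ Θ)
      _ < _ := hTΘ
      _ ≤ c * Nat.card (T ⊓ D : Subgroup G) := hDc
      _ ≤ _ := Nat.mul_le_mul_left c (Subgroup.card_le_of_le inf_le_right)
  set K := Subgroup.centralizer (D : Set G)
  have hKS : K ≤ S := fun k hk => by
    obtain ⟨d, hd, hdZ⟩ := exists_notMem_of_card_lt (lt_of_le_of_lt (Nat.le_mul_of_pos_left z (by omega)) hDbig)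
    refine ⟨d, hDT hd, mem_cj.2 ?_, hdZ⟩
    rw [mul_assoc, Subgroup.mem_centralizer_iff.1 hk d hd, inv_mul_cancel_left]
    exact hDT hd
  have hScard : Nat.card S = Nat.card K * K.relIndex S := by
    rw [← card_inf_mul_relIndex S K, inf_eq_right.2 hKS]
  have hKT : Nat.card K ≤ f * Nat.card T := by
    obtain ⟨d, hd, hdZ⟩ := exists_notMem_of_card_lt (lt_of_le_of_lt (Nat.le_mul_of_pos_left z (by omega)) hDbig)
    refine le_trans (Subgroup.card_le_of_le fun k hk => ?_) (hnearC d (hDT hd) hdZ)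
    exact Subgroup.mem_centralizer_singleton_iff.2 (Subgroup.mem_centralizer_iff.1 hk d hd).symm
  by_cases hStop : S = ⊤
  · refine Or.inl ⟨T, hTc, le_of_mul_le_mul_right ?_ (Nat.card_pos (α := T))⟩
    rw [Subgroup.index_mul_card, ← Subgroup.card_top, ← hStop, hScard]
    calc Nat.card K * K.relIndex S ≤ f * Nat.card T * e := Nat.mul_le_mul hKT hDe
      _ = e * f * Nat.card T := by ring
  -- the elements attached to a conjugate of `D`
  let P : G → G → Prop := fun g x => ψ * z < Nat.card (Subgroup.centralizer ({x} : Set G) ⊓ cj g D : Subgroup G)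
  have hDcj : ∀ g, cj g D ≤ cj g T := fun g => Subgroup.pointwise_smul_le_pointwise_smul_iff.2 hDT
  have hPconj : ∀ g h x, P (h * g) (h * x * h⁻¹) ↔ P g x := fun g h x => by
    simp only [P]
    rw [centralizer_cj, cj_mul, ← cj_inf, card_cj]
  have hwit : ∀ g x, P g x → ∀ A : Subgroup G, A ≤ Subgroup.centralizer {x} →
      Nat.card (Subgroup.centralizer ({x} : Set G)) ≤ f * Nat.card A →
      ψ * z < f * Nat.card (A ⊓ cj g D : Subgroup G) := by
    intro g x hP A hAle hA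
    refine lt_of_lt_of_le hP ?_
    have hn : Near f (Subgroup.centralizer ({x} : Set G)) A := by rwa [Near, inf_eq_right.2 hAle]
    refine (hn.mono inf_le_left).trans (Nat.mul_le_mul_left f (Subgroup.card_le_of_le ?_))
    exact le_inf inf_le_right (inf_le_left.trans inf_le_right)
  have huniq : ∀ x g, x ∉ 𝒮.Z → P 1 x → P g x → g ∈ S := by
    intro x g hxZ h1 hg
    obtain ⟨A, hAc, hxA, hAle, hA⟩ := 𝒮.nearly x hxZ
    have w1 := hwit 1 x h1 A hAle hA
    have w2 := hwit g x hg A hAle hA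
    have hfz : f * z ≤ ψ * z := Nat.mul_le_mul_right z (le_trans (Nat.le_mul_of_pos_left f hf) hψf)
    obtain ⟨d, hd, hdZ⟩ := exists_notMem_of_card_lt (lt_of_mul_lt_mul_left (hfz.trans_lt w1) (Nat.zero_le _))
    have hdT : d ∈ cj 1 T := hDcj 1 hd.2
    have hAd : A ≤ Subgroup.centralizer {d} := fun a ha =>
      Subgroup.mem_centralizer_singleton_iff.2 (congrArg Subtype.val (hAc.is_comm.comm ⟨a, ha⟩ ⟨d, hd.1⟩))
    have hn := (hcjC 1 d hdT hdZ).2.mono ((inf_le_left : A ⊓ cj g D ≤ A).trans hAd)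
    have h3 : z < Nat.card (A ⊓ cj g D ⊓ cj 1 T : Subgroup G) := by
      refine lt_of_mul_lt_mul_left (a := f * f) ?_ (Nat.zero_le _)
      calc f * f * z ≤ ψ * z := Nat.mul_le_mul_right z hψf
        _ < _ := w2
        _ ≤ f * (f * Nat.card (A ⊓ cj g D ⊓ cj 1 T : Subgroup G)) := Nat.mul_le_mul_left f hn
        _ = _ := (mul_assoc _ _ _).symm
    obtain ⟨w, hw, hwZ⟩ := exists_notMem_of_card_lt h3
    exact ⟨w, by simpa [mem_cj] using hw.2, hDcj g hw.1.2, hwZ⟩
  let Y : Set G := {x | P 1 x}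
  have hYS : Y ⊆ S := fun x hx => by
    obtain ⟨d, hd, hdZ⟩ := exists_notMem_of_card_lt
      (lt_of_le_of_lt (Nat.le_mul_of_pos_left z (by omega)) (hx : ψ * z < _))
    have hdT : d ∈ T := by simpa [mem_cj] using hDcj 1 hd.2
    refine ⟨d, hdT, mem_cj.2 ?_, hdZ⟩
    rw [mul_assoc, Subgroup.mem_centralizer_singleton_iff.1 hd.1, inv_mul_cancel_left]
    exact hdT
  have hZY : ∀ x ∈ 𝒮.Z, x ∈ Y := fun x hx => by
    show ψ * z < _
    rw [show Subgroup.centralizer ({x} : Set G) = ⊤ from eq_top_iff.2 fun y _ =>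
      Subgroup.mem_centralizer_singleton_iff.2 (Subgroup.mem_center_iff.1 (𝒮.central hx) y), top_inf_eq, card_cj]
    exact hDbig
  have hYK : ∀ x ∈ Y, ∀ k ∈ K, x * k ∈ Y := by
    intro x hx k hk
    refine lt_of_lt_of_le (hx : ψ * z < _) (Subgroup.card_le_of_le fun d hd => ?_)
    refine ⟨?_, hd.2⟩
    have hdD : d ∈ D := by simpa [mem_cj] using hd.2
    have hkd := Subgroup.mem_centralizer_iff.1 hk d hdD
    show d ∈ Subgroup.centralizer ({x * k} : Set G); rw [Subgroup.mem_centralizer_singleton_iff, ← mul_assoc,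
      Subgroup.mem_centralizer_singleton_iff.1 hd.1, mul_assoc, hkd, mul_assoc]
  let U : Set G := {x | x ∉ 𝒮.Z ∧ ∃ g, P g x}
  have hUR : U ⊆ R := by
    rintro x ⟨hxZ, g, hg⟩
    obtain ⟨A, hAc, hxA, hAle, hA⟩ := 𝒮.nearly x hxZ
    have w := hwit g x hg A hAle hA
    have hfz : f * z ≤ ψ * z := Nat.mul_le_mul_right z (le_trans (Nat.le_mul_of_pos_left f hf) hψf)
    obtain ⟨d, hd, hdZ⟩ := exists_notMem_of_card_lt (lt_of_mul_lt_mul_left (hfz.trans_lt w) (Nat.zero_le _))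
    have hdR : d ∈ R := by
      have h1 := hTR _ (mem_cj.1 (hDcj g hd.2)) (hnormZ g d hdZ)
      have h2 := hR.conj _ h1 g
      rwa [show g * (g⁻¹ * d * g) * g⁻¹ = d by group] at h2
    refine hR.closed d hdR A hAc hd.1 ?_ x hxA hxZ
    refine lt_of_lt_of_le (lt_of_mul_lt_mul_left (a := f) ?_ (Nat.zero_le f)) (Subgroup.card_le_of_le (inf_le_left : A ⊓ cj g D ≤ A))
    calc f * (θ * z) = f * θ * z := (mul_assoc _ _ _).symm
      _ ≤ ψ * z := Nat.mul_le_mul_right z hψθ
      _ < _ := w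
  -- counting
  let W : Set G := Y \ (𝒮.Z : Set G)
  have hUW : Nat.card U = S.index * Nat.card W := by
    rw [Subgroup.index, ← Nat.card_prod]
    symm
    refine Nat.card_congr (Equiv.ofBijective
      (fun p : (G ⧸ S) × W => (⟨p.1.out * p.2 * p.1.out⁻¹, ?_, p.1.out, ?_⟩ : U)) ⟨?_, ?_⟩)
    · intro h
      have := hnormZ p.1.out⁻¹ _ p.2.2.2
      rw [inv_inv] at this
      exact this h
    · have := (hPconj 1 p.1.out p.2).2 p.2.2.1
      rwa [mul_one] at this
    · rintro ⟨q, y, hy⟩ ⟨q', y', hy'⟩ h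
      have h' : q.out * y * q.out⁻¹ = q'.out * y' * q'.out⁻¹ := congrArg Subtype.val h
      have e1 : y = (q.out⁻¹ * q'.out) * y' * (q.out⁻¹ * q'.out)⁻¹ := by
        calc y = q.out⁻¹ * (q.out * y * q.out⁻¹) * q.out := by group
          _ = q.out⁻¹ * (q'.out * y' * q'.out⁻¹) * q.out := by rw [h']
          _ = _ := by group
      have hP2 : P (q.out⁻¹ * q'.out) y := by
        have := (hPconj 1 (q.out⁻¹ * q'.out) y').2 hy'.1
        rwa [mul_one, ← e1] at this
      have hmem := huniq y _ hy.2 hy.1 hP2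
      have hq : q = q' := by
        rw [← QuotientGroup.out_eq' q, ← QuotientGroup.out_eq' q', QuotientGroup.eq]; exact hmem
      subst hq
      have : y = y' := by simpa using h'
      subst this
      rfl
    · rintro ⟨x, hxZ, g, hg⟩
      obtain ⟨t, ht, hte⟩ : ∃ t ∈ S, (QuotientGroup.mk g : G ⧸ S).out = g * t :=
        ⟨_, ((g : G ⧸ S).out_eq'.symm |> QuotientGroup.eq.1), (mul_inv_cancel_left _ _).symm⟩
      set q := (g : G ⧸ S)
      refine ⟨(q, ⟨q.out⁻¹ * x * q.out, ?_, hnormZ _ _ hxZ⟩), Subtype.ext ?_⟩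
      · have hDt : cj q.out D = cj g D := by rw [hte, cj_mul, hDS t ht]
        have hP' : P q.out x := by simp only [P, hDt]; exact hg
        have := (hPconj q.out q.out⁻¹ x).2 hP'
        rwa [inv_mul_cancel, inv_inv] at this
      · show q.out * (q.out⁻¹ * x * q.out) * q.out⁻¹ = x
        group
  have hWY : Nat.card W + z = Nat.card Y := by
    rw [Nat.card_coe_set_eq, Nat.card_coe_set_eq, hzdef,
      show Nat.card 𝒮.Z = (𝒮.Z : Set G).ncard from Nat.card_coe_set_eq _]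
    exact Set.ncard_sdiff_add_ncard_of_subset hZY
  obtain ⟨a, ha⟩ : ∃ a, Nat.card Y = Nat.card K * a := by
    have hY : Y = QuotientGroup.mk ⁻¹' ((QuotientGroup.mk : G → G ⧸ K) '' Y) := by
      ext x
      refine ⟨fun hx => ⟨x, hx, rfl⟩, ?_⟩
      rintro ⟨y, hy, hyx⟩
      have := hYK y hy _ (QuotientGroup.eq.1 hyx)
      rwa [mul_inv_cancel_left] at this
    exact ⟨_, by rw [hY, Nat.card_congr (QuotientGroup.preimageMkEquivSubgroupProdSet K _), Nat.card_prod]⟩
  have hzK : 2 * z ≤ Nat.card K := by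
    refine le_trans (le_trans (Nat.mul_le_mul_right z hψ2) hDbig.le) (Subgroup.card_le_of_le fun d hd => ?_)
    exact Subgroup.mem_centralizer_iff.2 fun d' hd' => hTcomm _ (hDT hd') _ (hDT hd)
  have hr : 0 < K.relIndex S := Nat.pos_of_ne_zero Subgroup.index_ne_zero_of_finite
  have hGcard : Nat.card G = S.index * (Nat.card K * K.relIndex S) := by
    rw [← hScard, Subgroup.index_mul_card]
  refine Or.inr ⟨U, a * (e.factorial / K.relIndex S), 𝒮.Z.relIndex S, hUR, ?_, ?_, ?_, ?_, ?_⟩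
  · -- the rest is again closed
    refine ⟨fun x hx => hR.outside x hx.1, fun x hx g => ⟨hR.conj x hx.1 g, ?_⟩,
      fun x hx w hw => ⟨hR.zmul x hx.1 w hw, ?_⟩, ?_⟩
    · rintro ⟨-, h, hh⟩
      refine hx.2 ⟨hR.outside x hx.1, g⁻¹ * h, ?_⟩
      have := (hPconj h g⁻¹ _).2 hh
      rwa [inv_inv, show g⁻¹ * (g * x * g⁻¹) * g = x by group] at this
    · rintro ⟨-, h, hh⟩
      refine hx.2 ⟨hR.outside x hx.1, h, ?_⟩
      simp only [P, centralizer_mul_central (𝒮.central hw)] at hh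
      exact hh
    · intro x hx A hAc hxA hA y hy hyZ
      have hθA : θ * z < Nat.card A := lt_of_le_of_lt (Nat.mul_le_mul_right z (by omega)) hA
      refine ⟨hR.closed x hx.1 A hAc hxA hθA y hy hyZ, ?_⟩
      rintro ⟨-, g, hg⟩
      obtain ⟨B, hBc, hyB, hBle, hB⟩ := 𝒮.nearly y hyZ
      have hn1 : Near f A B := by
        refine Near.mono (H := Subgroup.centralizer ({y} : Set G)) ?_ fun a ha =>
          Subgroup.mem_centralizer_singleton_iff.2 (congrArg Subtype.val (hAc.is_comm.comm ⟨a, ha⟩ ⟨y, hy⟩))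
        rwa [Near, inf_eq_right.2 hBle]
      have w := hwit g y hg B hBle hB
      have hfz : f * z ≤ ψ * z := Nat.mul_le_mul_right z (le_trans (Nat.le_mul_of_pos_left f hf) hψf)
      obtain ⟨d, hd, hdZ⟩ := exists_notMem_of_card_lt (lt_of_mul_lt_mul_left (hfz.trans_lt w) (Nat.zero_le _))
      have hBd : B ≤ Subgroup.centralizer {d} := fun a ha =>
        Subgroup.mem_centralizer_singleton_iff.2 (congrArg Subtype.val (hBc.is_comm.comm ⟨a, ha⟩ ⟨d, hd.1⟩))
      have hn2 := (hcjC g d (hDcj g hd.2) hdZ).2.mono ((inf_le_right : A ⊓ B ≤ B).trans hBd)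
      have hn3 : Near c (cj g T) (cj g D) := by
        rw [Near, ← cj_inf, card_cj, card_cj]; exact hDc
      have hn3' := hn3.mono (inf_le_right : A ⊓ B ⊓ cj g T ≤ cj g T)
      refine hx.2 ⟨hR.outside x hx.1, g, ?_⟩
      show ψ * z < _
      refine lt_of_mul_lt_mul_left (a := f * f * c) ?_ (Nat.zero_le _)
      calc f * f * c * (ψ * z) = f * f * c * ψ * z := (mul_assoc _ _ _).symm
        _ ≤ (f * f * c * ψ + θ) * z := Nat.mul_le_mul_right z (Nat.le_add_right _ _)
        _ < Nat.card A := hA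
        _ ≤ f * (f * (c * Nat.card (A ⊓ B ⊓ cj g T ⊓ cj g D : Subgroup G))) :=
          hn1.trans (Nat.mul_le_mul_left f (hn2.trans (Nat.mul_le_mul_left f hn3')))
        _ ≤ f * (f * (c * Nat.card (Subgroup.centralizer ({x} : Set G) ⊓ cj g D : Subgroup G))) := by
          refine Nat.mul_le_mul_left f (Nat.mul_le_mul_left f (Nat.mul_le_mul_left c (Subgroup.card_le_of_le ?_)))
          refine le_inf (fun a ha => ?_) inf_le_right
          exact Subgroup.mem_centralizer_singleton_iff.2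
            (congrArg Subtype.val (hAc.is_comm.comm ⟨a, ha.1.1.1⟩ ⟨x, hxA⟩))
        _ = _ := by ring
  · have hYK' : Nat.card K ≤ Nat.card Y := by
      rw [ha]
      refine Nat.le_mul_of_pos_right _ (Nat.pos_of_ne_zero fun h0 => ?_)
      rw [h0, mul_zero] at ha
      omega
    rw [hUW, hGcard]
    calc S.index * (Nat.card K * K.relIndex S) ≤ S.index * (2 * Nat.card W * e) :=
          Nat.mul_le_mul_left _ (Nat.mul_le_mul (by omega) hDe)
      _ = 2 * e * (S.index * Nat.card W) := by ring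
  · exact Nat.pos_of_ne_zero Subgroup.index_ne_zero_of_finite
  · have hZS : 𝒮.Z ≤ S := fun w hw => hYS (hZY w hw)
    have h1 := Subgroup.relIndex_mul_index hZS
    have h2 : 1 < S.index := Subgroup.one_lt_index_of_ne_top hStop
    have h3 : 0 < 𝒮.Z.relIndex S := Nat.pos_of_ne_zero Subgroup.index_ne_zero_of_finite
    calc 𝒮.Z.relIndex S = 𝒮.Z.relIndex S * 1 := (mul_one _).symm
      _ < 𝒮.Z.relIndex S * S.index := Nat.mul_lt_mul_of_pos_left h2 h3
      _ = _ := h1
  · have hZS : 𝒮.Z ≤ S := fun w hw => hYS (hZY w hw)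
    have hs : z * 𝒮.Z.relIndex S = Nat.card K * K.relIndex S := by
      rw [← hScard, ← card_inf_mul_relIndex S 𝒮.Z, inf_eq_right.2 hZS]
    have hsq : (z : ℚ) * (𝒮.Z.relIndex S : ℕ) = Nat.card K * (K.relIndex S : ℕ) := by exact_mod_cast hs
    have hWq : (Nat.card W : ℚ) = Nat.card K * a - z := by
      have : (Nat.card W : ℚ) + z = Nat.card K * a := by exact_mod_cast hWY.trans ha
      linear_combination this
    have hdvd : K.relIndex S ∣ e.factorial := Nat.dvd_factorial hr hDe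
    have hrq : ((K.relIndex S : ℕ) : ℚ) ≠ 0 := Nat.cast_ne_zero.2 hr.ne'
    rw [hUW, hGcard, Nat.cast_mul, Nat.cast_mul a, Nat.cast_div hdvd hrq]
    push_cast
    rw [hWq]
    have hi : (S.index : ℚ) ≠ 0 := Nat.cast_ne_zero.2 Subgroup.index_ne_zero_of_finite
    have hK : (Nat.card K : ℚ) ≠ 0 := Nat.cast_ne_zero.2 Nat.card_pos.ne'
    have hs0 : ((𝒮.Z.relIndex S : ℕ) : ℚ) ≠ 0 :=
      Nat.cast_ne_zero.2 Subgroup.index_ne_zero_of_finite
    have hf0 : (e.factorial : ℚ) ≠ 0 := Nat.cast_ne_zero.2 (Nat.factorial_pos e).ne'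
    field_simp
    linear_combination -hsq

universe u

theorem counted (f e c : ℕ) (he : 0 < e) (hf : 0 < f) (hc : 0 < c) : ∀ k θ : ℕ, ∃ D : ℕ, 0 < D ∧
    ∀ (G : Type u) [Group G] [Finite G] (𝒮 : Setting G f e c) (R : Set G), Closed 𝒮 θ R →
      Nat.card R * (2 * e) ≤ k * Nat.card G → Counted 𝒮 k D R := by
  intro k
  induction k with
  | zero =>
    intro θ
    refine ⟨1, one_pos, fun G _ _ 𝒮 R _ hle => Or.inr ⟨0, [], le_rfl, by simp, ?_⟩⟩
    rw [zero_mul, Nat.le_zero, mul_eq_zero] at hle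
    rw [hle.resolve_right (by omega)]
    simp
  | succ k ih =>
    intro θ
    set Θ := f * (c * (f * (θ + f + 2)) * (f + 1) + f * f + θ + 1)
    obtain ⟨D1, hD1, h1⟩ := ih (f * f * c * (f * (θ + f + 2)) + θ)
    refine ⟨(Θ * e).factorial * (e.factorial * D1), by positivity, fun G _ _ 𝒮 R hR hle => ?_⟩
    have hq1 : (((Θ * e).factorial : ℕ) : ℚ) ≠ 0 := Nat.cast_ne_zero.2 (Nat.factorial_pos _).ne'
    have hq2 : ((e.factorial : ℕ) : ℚ) ≠ 0 := Nat.cast_ne_zero.2 (Nat.factorial_pos _).ne'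
    have hq3 : (D1 : ℚ) ≠ 0 := Nat.cast_ne_zero.2 hD1.ne'
    by_cases hsmall : ∀ x ∈ R, Nat.card (Subgroup.centralizer ({x} : Set G)) ≤ Θ * Nat.card 𝒮.Z
    · obtain ⟨a, ha⟩ := small_case 𝒮 hR Θ hsmall
      refine Or.inr ⟨a * (e.factorial * D1), [], Nat.zero_le _, by simp, ?_⟩
      rw [ha]
      push_cast
      simp only [List.map_nil, List.sum_nil, sub_zero]
      field_simp
    push Not at hsmall
    obtain ⟨x₀, hx₀, hbig⟩ := hsmall
    rcases step 𝒮 he hf hc hR hx₀ hbig with h | ⟨U, a, s, hUR, hcl, hU, hs0, hs, heq⟩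
    · exact Or.inl h
    have hsplit : Nat.card (R \ U : Set G) + Nat.card U = Nat.card R := by
      rw [Nat.card_coe_set_eq, Nat.card_coe_set_eq, Nat.card_coe_set_eq]
      exact Set.ncard_sdiff_add_ncard_of_subset hUR
    rcases h1 G 𝒮 (R \ U) hcl (by
      rw [← hsplit] at hle
      linarith [hle, hU, Nat.mul_comm (Nat.card U) (2 * e)]) with h | ⟨b, l, hlen, hlt, hb⟩
    · exact Or.inl h
    refine Or.inr ⟨a * ((Θ * e).factorial * D1) + b * ((Θ * e).factorial * e.factorial), s :: l, by simp; omega,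
      by simp only [List.mem_cons, forall_eq_or_imp]; exact ⟨⟨hs0, hs⟩, hlt⟩, ?_⟩
    rw [← hsplit, Nat.cast_add, add_div, hb, heq]
    push_cast
    simp only [List.map_cons, List.sum_cons]
    field_simp
    ring

/-- Jordan's argument: an abelian subgroup of bounded index. -/
theorem exists_abelian_bound (f e c : ℕ) (he : 0 < e) (hf : 0 < f) (hc : 0 < c) : ∃ N : ℕ,
    ∀ (G : Type u) [Group G] [Finite G],
      Setting G f e c → ∃ A : Subgroup G, IsMulCommutative A ∧ A.index ≤ N := by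
  obtain ⟨D, -, h⟩ := counted.{u} f e c he hf hc (2 * e) 0
  obtain ⟨B, hB⟩ := egyptian (2 * e) D
  refine ⟨max (e * f) B, fun G _ _ 𝒮 => ?_⟩
  have hcl : Closed 𝒮 0 (𝒮.Z : Set G)ᶜ := by
    refine ⟨fun x hx => hx, fun x hx g h => ?_, fun x hx z hz h => ?_, fun x _ A _ _ _ y _ hy => hy⟩
    · have e1 := Subgroup.mem_center_iff.1 (𝒮.central h) g
      refine hx ((mul_right_cancel (b := g⁻¹) ?_ : g * x * g⁻¹ = x) ▸ h)
      have : x = g * x * g⁻¹ := mul_left_cancel (a := g) (by rw [e1]; group)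
      rw [← this]
    · exact hx (by simpa using 𝒮.Z.mul_mem h (𝒮.Z.inv_mem hz))
  have hle : Nat.card ((𝒮.Z : Set G)ᶜ : Set G) * (2 * e) ≤ 2 * e * Nat.card G := by
    rw [mul_comm]
    exact Nat.mul_le_mul_left _ (Finite.card_subtype_le _)
  have hsum : Nat.card ((𝒮.Z : Set G)ᶜ : Set G) + Nat.card 𝒮.Z = Nat.card G := by
    rw [Nat.card_coe_set_eq, show Nat.card 𝒮.Z = (𝒮.Z : Set G).ncard from Nat.card_coe_set_eq _, add_comm]
    exact Set.ncard_add_ncard_compl _
  rcases h G 𝒮 _ hcl hle with ⟨A, hA, hi⟩ | ⟨a, s, hs, hlt, heq⟩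
  · exact ⟨A, hA, hi.trans (le_max_left _ _)⟩
  · refine ⟨𝒮.Z, .of_comm fun x y => Subtype.ext ((Subgroup.mem_center_iff.1 (𝒮.central y.2) x.1)),
      le_trans (hB a 𝒮.Z.index s hs (Nat.pos_of_ne_zero Subgroup.index_ne_zero_of_finite) hlt ?_) (le_max_right _ _)⟩
    rw [← heq]
    have hz : (Nat.card 𝒮.Z : ℚ) ≠ 0 := Nat.cast_ne_zero.2 Nat.card_pos.ne'
    have hi : (𝒮.Z.index : ℚ) ≠ 0 := Nat.cast_ne_zero.2 Subgroup.index_ne_zero_of_finite
    have hG : (Nat.card G : ℚ) = Nat.card 𝒮.Z * 𝒮.Z.index := by exact_mod_cast 𝒮.Z.card_mul_index.symm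
    have hq : (Nat.card ((𝒮.Z : Set G)ᶜ : Set G) : ℚ) = Nat.card G - Nat.card 𝒮.Z := by
      rw [← hsum]; push_cast; ring
    rw [hq, hG]
    field_simp

end Counting

end CfsgLib.JordanModular
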