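import Mathlib
import Cfsg.Agent.Lib.JordanModular.Counting

/-!
An irreducible linear group over an algebraically closed field satisfies the hypotheses of the counting
argument, given that its reducible subgroups have abelian subgroups of bounded index.
-/

set_option autoImplicit false

namespace CfsgLib.JordanModular

open Pointwise

universe u v

variable {K : Type v} [Field K] [IsAlgClosed K]
variable {G : Type u} [Group G] [Finite G]
variable {V : Type v} [AddCommGroup V] [Module K V] [FiniteDimensional K V]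

omit [IsAlgClosed K] [Finite G] [FiniteDimensional K V] in
theorem rho_inv_mul_self (ρ : G →* Module.End K V) (g : G) (v : V) : ρ g⁻¹ (ρ g v) = v := by
  rw [← Module.End.mul_apply, ← map_mul, inv_mul_cancel, map_one, Module.End.one_apply]

omit [IsAlgClosed K] [Finite G] [FiniteDimensional K V] in
theorem rho_ne_zero (ρ : G →* Module.End K V) (g : G) {v : V} (hv : v ≠ 0) : ρ g v ≠ 0 := fun h =>
  hv (by rw [← rho_inv_mul_self ρ g v, h, map_zero])

/-- The elements acting as scalars. -/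
def scalars (ρ : G →* Module.End K V) : Subgroup G where
  carrier := {g | ∃ a : K, ∀ v, ρ g v = a • v}
  one_mem' := ⟨1, fun v => by simp⟩
  mul_mem' := by
    rintro g h ⟨a, ha⟩ ⟨b, hb⟩
    exact ⟨a * b, fun v => by rw [map_mul, Module.End.mul_apply, hb, ha, smul_smul]⟩
  inv_mem' := by
    rintro g ⟨a, ha⟩
    refine ⟨a⁻¹, fun v => ?_⟩
    rcases eq_or_ne a 0 with rfl | ha0
    · by_cases hv : v = 0
      · simp [hv]
      · exact absurd (by rw [ha, zero_smul]) (rho_ne_zero ρ g hv)
    · refine smul_right_injective V ha0 ?_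
      simp only
      rw [smul_inv_smul₀ ha0, ← ha, ← Module.End.mul_apply, ← map_mul, mul_inv_cancel, map_one,
        Module.End.one_apply]

omit [IsAlgClosed K] [Finite G] [FiniteDimensional K V] in
theorem scalars_le_center {ρ : G →* Module.End K V} (hinj : Function.Injective ρ) :
    scalars ρ ≤ Subgroup.center G := by
  rintro g ⟨a, ha⟩
  refine Subgroup.mem_center_iff.2 fun h => hinj (LinearMap.ext fun v => ?_)
  rw [map_mul, map_mul, Module.End.mul_apply, Module.End.mul_apply, ha, ha, map_smul]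

/-- Each non-scalar element has a nearly abelian centralizer. -/
theorem exists_nearly {ρ : G →* Module.End K V} {f : ℕ} [Nontrivial V]
    (hred : ∀ H : Subgroup G, ∀ W : Submodule K V, W ≠ ⊥ → W ≠ ⊤ → (∀ g ∈ H, ∀ v ∈ W, ρ g v ∈ W) →
      ∃ A : Subgroup G, A ≤ H ∧ IsMulCommutative A ∧ Nat.card H ≤ f * Nat.card A)
    {x : G} (hx : x ∉ scalars ρ) :
    ∃ A : Subgroup G, IsMulCommutative A ∧ x ∈ A ∧ A ≤ Subgroup.centralizer {x} ∧
      Nat.card (Subgroup.centralizer ({x} : Set G)) ≤ f * Nat.card A := by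
  obtain ⟨μ, hμ⟩ := Module.End.exists_eigenvalue (ρ x)
  obtain ⟨A, hAle, hAc, hA⟩ := hred (Subgroup.centralizer {x}) ((ρ x).eigenspace μ) hμ
    (fun htop => hx ⟨μ, fun v => Module.End.mem_eigenspace_iff.1 (htop ▸ Submodule.mem_top)⟩)
    (fun g hg v hv => by
      rw [Module.End.mem_eigenspace_iff] at hv ⊢
      rw [← Module.End.mul_apply, ← map_mul, ← Subgroup.mem_centralizer_singleton_iff.1 hg, map_mul,
        Module.End.mul_apply, hv, map_smul])
  have hcomm : ∀ a ∈ (A : Set G) ∪ {x}, ∀ b ∈ (A : Set G) ∪ {x}, a * b = b * a := by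
    rintro a (ha | rfl) b (hb | rfl)
    · exact congrArg Subtype.val (hAc.is_comm.comm ⟨a, ha⟩ ⟨b, hb⟩)
    · exact Subgroup.mem_centralizer_singleton_iff.1 (hAle ha)
    · exact (Subgroup.mem_centralizer_singleton_iff.1 (hAle hb)).symm
    · rfl
  refine ⟨Subgroup.closure ((A : Set G) ∪ {x}), Subgroup.isMulCommutative_closure hcomm,
    Subgroup.subset_closure (Or.inr rfl), (Subgroup.closure_le _).2 ?_,
    hA.trans (Nat.mul_le_mul_left f (Subgroup.card_le_of_le fun a ha => Subgroup.subset_closure (Or.inl ha)))⟩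
  exact fun a ha => Subgroup.mem_centralizer_singleton_iff.2 (hcomm a ha x (Or.inr rfl))

/-- At most `n` central translates of an element are conjugate to it. -/
theorem twist_le {ρ : G →* Module.End K V} (hinj : Function.Injective ρ) [Nontrivial V] (x : G) :
    Nat.card {z : scalars ρ // IsConj x (x * (z : G))} ≤ Module.finrank K V := by
  classical
  obtain ⟨μ, hμ⟩ := Module.End.exists_eigenvalue (ρ x)
  obtain ⟨v, hv⟩ := hμ.exists_hasEigenvector
  have hμ0 : μ ≠ 0 := fun h => rho_ne_zero ρ x hv.2 (by rw [hv.apply_eq_smul, h, zero_smul])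
  choose ζ hζ using fun z : scalars ρ => z.2
  have hroot : ∀ z : {z : scalars ρ // IsConj x (x * (z : G))}, ζ z.1 * μ ∈ (ρ x).charpoly.roots.toFinset := by
    rintro ⟨z, hz⟩
    obtain ⟨g, hg⟩ := isConj_iff.1 hz
    rw [Multiset.mem_toFinset, Polynomial.mem_roots (LinearMap.charpoly_monic _).ne_zero,
      ← Module.End.hasEigenvalue_iff_isRoot_charpoly]
    refine Module.End.hasEigenvalue_of_hasEigenvector (x := ρ g⁻¹ v) ⟨?_, rho_ne_zero ρ _ hv.2⟩
    rw [Module.End.mem_eigenspace_iff, ← Module.End.mul_apply, ← map_mul,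
      show x * g⁻¹ = g⁻¹ * (x * (z : G)) by rw [← hg]; group, map_mul, map_mul, Module.End.mul_apply,
      Module.End.mul_apply, hζ z, map_smul, hv.apply_eq_smul, smul_smul, map_smul]
  refine le_trans (Nat.card_le_card_of_injective
    (fun z => (⟨_, hroot z⟩ : (ρ x).charpoly.roots.toFinset)) ?_) ?_
  · intro z w h
    have h' : ζ z.1 = ζ w.1 := mul_right_cancel₀ hμ0 (congrArg Subtype.val h)
    exact Subtype.ext (Subtype.ext (hinj (LinearMap.ext fun u => by rw [hζ z.1, hζ w.1, h'])))
  · rw [Nat.card_eq_finsetCard, ← LinearMap.charpoly_natDegree (ρ x)]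
    exact (Multiset.toFinset_card_le _).trans (Polynomial.card_roots' _)

/-- A diagonalizable abelian group: its normalizer permutes at most `n` characters. -/
theorem relIndex_centralizer_le {ρ : G →* Module.End K V} (hinj : Function.Injective ρ) (D S : Subgroup G)
    (hDc : IsMulCommutative D) (k : ℕ) (hk : (k : K) ≠ 0) (hD : ∀ d ∈ D, d ^ k = 1)
    (hS : ∀ g ∈ S, ∀ d ∈ D, g * d * g⁻¹ ∈ D) :
    (Subgroup.centralizer (D : Set G)).relIndex S ≤ Module.finrank K V ^ Module.finrank K V := by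
  classical
  let f : D → Module.End K V := fun d => ρ d
  have hcomm : ∀ i j, Commute (f i) (f j) := fun i j => by
    show ρ i * ρ j = ρ j * ρ i
    rw [← map_mul, ← map_mul, show (i : G) * j = j * i from congrArg Subtype.val (hDc.is_comm.comm i j)]
  have hss : ∀ d μ, (f d).maxGenEigenspace μ = (f d).eigenspace μ := fun d μ => by
    refine Module.End.IsFinitelySemisimple.maxGenEigenspace_eq_eigenspace
      (Module.End.isFinitelySemisimple_iff_isSemisimple.2 ?_) μ
    refine Module.End.isSemisimple_of_squarefree_aeval_eq_zero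
      (Polynomial.X_pow_sub_one_separable_iff.2 hk).squarefree ?_
    rw [map_sub, map_pow, Polynomial.aeval_X, map_one, show f d = ρ d from rfl, ← map_pow, hD d d.2, map_one,
      sub_self]
  let W : (D → K) → Submodule K V := fun χ => ⨅ d, (f d).maxGenEigenspace (χ d)
  have hind : iSupIndep W :=
    Module.End.independent_iInf_maxGenEigenspace_of_forall_mapsTo f fun i j φ =>
      Module.End.mapsTo_maxGenEigenspace_of_comm (hcomm j i) φ
  have htop : ⨆ χ, W χ = ⊤ :=
    Module.End.iSup_iInf_maxGenEigenspace_eq_top_of_forall_mapsTo f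
      (fun i j φ => Module.End.mapsTo_maxGenEigenspace_of_comm (hcomm j i) φ)
      fun i => Module.End.iSup_maxGenEigenspace_eq_top _
  have hW : ∀ χ v, v ∈ W χ ↔ ∀ d : D, ρ d v = χ d • v := fun χ v => by
    simp only [W, Submodule.mem_iInf, hss, Module.End.mem_eigenspace_iff, f]
  haveI : Finite {χ // W χ ≠ ⊥} := (WellFoundedGT.finite_ne_bot_of_iSupIndep hind).to_subtype
  haveI : Fintype {χ // W χ ≠ ⊥} := Fintype.ofFinite _
  have hcard : Nat.card {χ // W χ ≠ ⊥} ≤ Module.finrank K V := by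
    rw [Nat.card_eq_fintype_card]
    exact hind.subtype_ne_bot_le_finrank
  let tw : S → D → D := fun g d => ⟨(g : G) * d * (g : G)⁻¹, hS g g.2 d d.2⟩
  have hmove : ∀ (g : S) (χ : {χ // W χ ≠ ⊥}), W (χ.1 ∘ tw g) ≠ ⊥ := by
    rintro g ⟨χ, hχ⟩
    obtain ⟨v, hv, hv0⟩ := (Submodule.ne_bot_iff _).1 hχ
    refine (Submodule.ne_bot_iff _).2 ⟨ρ (g : G)⁻¹ v, (hW _ _).2 fun d => ?_, rho_ne_zero ρ _ hv0⟩
    have h1 := (hW χ v).1 hv (tw g d)
    rw [← Module.End.mul_apply, ← map_mul,
      show (d : G) * (g : G)⁻¹ = (g : G)⁻¹ * ((g : G) * d * (g : G)⁻¹) by group, map_mul, Module.End.mul_apply]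
    rw [show ρ ((g : G) * d * (g : G)⁻¹) v = χ (tw g d) • v from h1, map_smul]
    rfl
  let F : S → ({χ // W χ ≠ ⊥} → {χ // W χ ≠ ⊥}) := fun g χ => ⟨_, hmove g χ⟩
  rw [Subgroup.relIndex, Subgroup.index]
  refine le_trans (Nat.card_le_card_of_injective (fun q => F q.out) ?_) ?_
  · intro q q' h
    rw [← QuotientGroup.out_eq' q, ← QuotientGroup.out_eq' q', QuotientGroup.eq, Subgroup.mem_subgroupOf,
      Subgroup.mem_centralizer_iff]
    intro d hd
    set g := q.out
    set g' := q'.out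
    have heq : (tw g ⟨d, hd⟩ : G) = tw g' ⟨d, hd⟩ := by
      refine hinj (LinearMap.ext fun v => ?_)
      have hv : v ∈ LinearMap.eqLocus (ρ (tw g ⟨d, hd⟩ : G)) (ρ (tw g' ⟨d, hd⟩ : G)) := by
        refine (iSup_le (fun χ w hw => ?_) : ⨆ χ, W χ ≤
          LinearMap.eqLocus (ρ (tw g ⟨d, hd⟩ : G)) (ρ (tw g' ⟨d, hd⟩ : G))) (htop.ge (Submodule.mem_top (x := v)))
        by_cases hχ : W χ = ⊥
        · rw [hχ, Submodule.mem_bot] at hw
          simp [hw]
        have h' := congrFun (congrArg Subtype.val (congrFun h ⟨χ, hχ⟩)) ⟨d, hd⟩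
        rw [LinearMap.mem_eqLocus, (hW χ w).1 hw, (hW χ w).1 hw]
        exact congrArg (· • w) h'
      exact hv
    simp only [tw] at heq
    push_cast
    calc d * (((g : G))⁻¹ * (g' : G)) = (g : G)⁻¹ * ((g : G) * d * (g : G)⁻¹) * g' := by group
      _ = (g : G)⁻¹ * ((g' : G) * d * (g' : G)⁻¹) * g' := by rw [heq]
      _ = ((g : G)⁻¹ * (g' : G)) * d := by group
  · rw [Nat.card_fun]
    rcases Nat.eq_zero_or_pos (Nat.card {χ // W χ ≠ ⊥}) with h0 | h0
    · rw [h0, pow_zero]
      exact Nat.one_le_iff_ne_zero.2 (Nat.pow_self_pos).ne'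
    · exact (Nat.pow_le_pow_left hcard _).trans (Nat.pow_le_pow_right (h0.trans_le hcard) hcard)

/-- An irreducible group satisfies the hypotheses of the counting argument. -/
theorem setting_of_irreducible (p : ℕ) [Fact p.Prime] [CharP K p] (n m f : ℕ) (hf : 0 < f)
    [Nontrivial V] (ρ : G →* Module.End K V) (hinj : Function.Injective ρ) (hn : Module.finrank K V ≤ n)
    (hred : ∀ H : Subgroup G, ∀ W : Submodule K V, W ≠ ⊥ → W ≠ ⊤ → (∀ g ∈ H, ∀ v ∈ W, ρ g v ∈ W) →
      ∃ A : Subgroup G, A ≤ H ∧ IsMulCommutative A ∧ Nat.card H ≤ f * Nat.card A)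
    (hm : (Nat.card G).factorization p ≤ m) :
    Nonempty (Setting G f (n ^ n) (f ^ (n * n) * p ^ m)) := by
  have hpos : 0 < Module.finrank K V := Module.finrank_pos
  have hnn : n ≤ n ^ n := Nat.le_self_pow (by omega) n
  refine ⟨⟨scalars ρ, scalars_le_center hinj, fun x hx => exists_nearly hred hx,
    fun x => (twist_le hinj x).trans (hn.trans hnn), ?_⟩⟩
  intro T hTc hTmax S hS
  -- `T` is cut out by the span of its image
  have hL : ∀ g, ρ g ∈ Submodule.span K (ρ '' (T : Set G)) → g ∈ T := by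
    intro g hg
    have hc : ∀ t ∈ T, g * t = t * g := fun t ht => by
      refine hinj ?_
      rw [map_mul, map_mul]
      have : Submodule.span K (ρ '' (T : Set G)) ≤
          LinearMap.eqLocus (LinearMap.mulRight K (ρ t)) (LinearMap.mulLeft K (ρ t)) := by
        refine Submodule.span_le.2 ?_
        rintro _ ⟨s, hs, rfl⟩
        show ρ s * ρ t = ρ t * ρ s
        rw [← map_mul, ← map_mul, show s * t = t * s from congrArg Subtype.val (hTc.is_comm.comm ⟨s, hs⟩ ⟨t, ht⟩)]
      exact this hg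
    have hcomm : ∀ a ∈ (T : Set G) ∪ {g}, ∀ b ∈ (T : Set G) ∪ {g}, a * b = b * a := by
      rintro a (ha | rfl) b (hb | rfl)
      · exact congrArg Subtype.val (hTc.is_comm.comm ⟨a, ha⟩ ⟨b, hb⟩)
      · exact (hc a ha).symm
      · exact hc b hb
      · rfl
    have := hTmax _ (Subgroup.isMulCommutative_closure hcomm) fun t ht => Subgroup.subset_closure (Or.inl ht)
    exact this ▸ Subgroup.subset_closure (Or.inr rfl)
  let D0 : Subgroup G := ⨅ g ∈ S, cj g T
  have hD0 : ∀ y, y ∈ D0 ↔ ∀ g ∈ S, y ∈ cj g T := fun y => by simp [D0, Subgroup.mem_iInf]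
  have hD0T : D0 ≤ T := fun y hy => by simpa [mem_cj] using (hD0 y).1 hy 1 S.one_mem
  have hgreedy : ∀ d, ∀ H : Subgroup G, H ≤ T → D0 ≤ H →
      Module.finrank K (Submodule.span K (ρ '' (H : Set G))) ≤ d → Nat.card H ≤ f ^ d * Nat.card D0 := by
    intro d
    induction d using Nat.strong_induction_on with
    | _ d ih =>
      intro H hHT hD0H hd
      by_cases hall : ∀ g ∈ S, H ≤ cj g T
      · exact (Subgroup.card_le_of_le fun y hy => (hD0 y).2 fun g hg => hall g hg hy).trans
          (Nat.le_mul_of_pos_left _ (pow_pos hf d))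
      push Not at hall
      obtain ⟨g, hg, hgH⟩ := hall
      have hle : Submodule.span K (ρ '' ((H ⊓ cj g T : Subgroup G) : Set G)) ≤ Submodule.span K (ρ '' (H : Set G)) :=
        Submodule.span_mono (Set.image_mono fun y hy => hy.1)
      have hlt : Submodule.span K (ρ '' ((H ⊓ cj g T : Subgroup G) : Set G)) < Submodule.span K (ρ '' (H : Set G)) := by
        refine lt_of_le_of_ne hle fun he => hgH fun y hy => mem_cj.2 (hL _ ?_)
        have h1 : ρ y ∈ Submodule.span K (ρ '' ((H ⊓ cj g T : Subgroup G) : Set G)) :=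
          he ▸ Submodule.subset_span ⟨y, hy, rfl⟩
        have h2 : Submodule.span K (ρ '' ((H ⊓ cj g T : Subgroup G) : Set G)) ≤
            (Submodule.span K (ρ '' (T : Set G))).comap (LinearMap.mulLeftRight K (ρ g⁻¹, ρ g)) := by
          refine Submodule.span_le.2 ?_
          rintro _ ⟨w, hw, rfl⟩
          rw [SetLike.mem_coe, Submodule.mem_comap, LinearMap.mulLeftRight_apply]
          rw [← map_mul, ← map_mul]
          exact Submodule.subset_span ⟨_, mem_cj.1 hw.2, rfl⟩
        have h3 : ρ g⁻¹ * ρ y * ρ g ∈ Submodule.span K (ρ '' (T : Set G)) := h2 h1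
        rwa [← map_mul, ← map_mul] at h3
      have hr := (Submodule.finrank_lt_finrank_of_lt hlt).trans_le hd
      have hn1 : Near f H (cj g T) := (hS g hg).mono hHT
      refine hn1.trans ((Nat.mul_le_mul_left f (ih _ hr _ (inf_le_left.trans hHT)
        (le_inf hD0H fun y hy => (hD0 y).1 hy g hg) le_rfl)).trans ?_)
      rw [← mul_assoc, ← pow_succ']
      exact Nat.mul_le_mul_right _ (Nat.pow_le_pow_right hf hr)
  have hTD0 : Nat.card T ≤ f ^ (n * n) * Nat.card D0 := by
    refine hgreedy (n * n) T le_rfl hD0T ((Submodule.finrank_le _).trans ?_)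
    rw [Module.finrank_linearMap]
    exact Nat.mul_le_mul hn hn
  -- the part of `D0` of order prime to `p`
  have hN : Nat.card G ≠ 0 := Nat.card_pos.ne'
  set k := ordCompl[p] (Nat.card G)
  have hTcomm : ∀ a ∈ T, ∀ b ∈ T, a * b = b * a := fun a ha b hb =>
    congrArg Subtype.val (hTc.is_comm.comm ⟨a, ha⟩ ⟨b, hb⟩)
  let D : Subgroup G :=
    { carrier := {y | y ∈ D0 ∧ y ^ k = 1}
      one_mem' := ⟨D0.one_mem, one_pow k⟩
      mul_mem' := fun {a b} ha hb => ⟨D0.mul_mem ha.1 hb.1, by
        rw [Commute.mul_pow (hTcomm a (hD0T ha.1) b (hD0T hb.1)), ha.2, hb.2, one_mul]⟩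
      inv_mem' := fun {a} ha => ⟨D0.inv_mem ha.1, by rw [inv_pow, ha.2, inv_one]⟩ }
  have hD0inv : ∀ g ∈ S, ∀ y ∈ D0, g * y * g⁻¹ ∈ D0 := by
    refine fun g hg y hy => (hD0 _).2 fun h hh => mem_cj.2 ?_
    have := mem_cj.1 ((hD0 y).1 hy (g⁻¹ * h) (S.mul_mem (S.inv_mem hg) hh))
    rwa [show (g⁻¹ * h)⁻¹ * y * (g⁻¹ * h) = h⁻¹ * (g * y * g⁻¹) * h by group] at this
  have hDinv : ∀ g ∈ S, ∀ y ∈ D, g * y * g⁻¹ ∈ D := fun g hg y hy =>
    ⟨hD0inv g hg y hy.1, by rw [conj_pow, hy.2, mul_one, mul_inv_cancel]⟩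
  refine ⟨D, fun y hy => hD0T hy.1, fun g hg => ?_, ?_, ?_⟩
  · refine Subgroup.eq_of_le_of_card_ge (fun y hy => ?_) (card_cj g D).ge
    have := hDinv g hg _ (mem_cj.1 hy)
    rwa [show g * (g⁻¹ * y * g) * g⁻¹ = y by group] at this
  · rw [Near, inf_eq_right.2 (fun y hy => hD0T hy.1 : D ≤ T), mul_assoc]
    refine hTD0.trans (Nat.mul_le_mul_left _ ?_)
    have hD0c : IsMulCommutative D0 := .of_comm fun a b => Subtype.ext (hTcomm _ (hD0T a.2) _ (hD0T b.2))
    let φ : D0 →* D0 :=
      { toFun := fun a => a ^ k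
        map_one' := one_pow k
        map_mul' := fun a b => Commute.mul_pow (hD0c.is_comm.comm a b) k }
    have hker : Nat.card φ.ker = Nat.card D := Nat.card_congr
      { toFun := fun a => ⟨(a.1 : G), a.1.2, by
          have := congrArg Subtype.val (MonoidHom.mem_ker.1 a.2)
          simpa [φ] using this⟩
        invFun := fun a => ⟨⟨a.1, a.2.1⟩, MonoidHom.mem_ker.2 (Subtype.ext (by simpa [φ] using a.2.2))⟩
        left_inv := fun _ => rfl
        right_inv := fun _ => rfl }
    have hrange : IsPGroup p φ.range := by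
      rintro ⟨_, a, rfl⟩
      refine ⟨(Nat.card G).factorization p, Subtype.ext (Subtype.ext ?_)⟩
      simp only [φ, MonoidHom.coe_mk, OneHom.coe_mk, SubgroupClass.coe_pow, OneMemClass.coe_one, ← pow_mul]
      rw [mul_comm, Nat.ordProj_mul_ordCompl_eq_self, pow_card_eq_one']
    obtain ⟨j, hj⟩ := IsPGroup.iff_card.1 hrange
    have hjm : j ≤ m := by
      refine le_trans ((Nat.Prime.pow_dvd_iff_le_factorization Fact.out hN).1 ?_) hm
      rw [← hj]
      exact (Subgroup.card_subgroup_dvd_card _).trans (Subgroup.card_subgroup_dvd_card D0)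
    rw [← Subgroup.index_mul_card φ.ker, Subgroup.index_ker, hker, hj]
    exact Nat.mul_le_mul_right _ (Nat.pow_le_pow_right (Fact.out : p.Prime).pos hjm)
  · refine (relIndex_centralizer_le hinj D S ?_ k ?_ (fun d hd => hd.2) hDinv).trans
      ((Nat.pow_le_pow_left hn _).trans (Nat.pow_le_pow_right (by omega) hn))
    · exact .of_comm fun a b => Subtype.ext (hTcomm _ (hD0T a.2.1) _ (hD0T b.2.1))
    · rw [Ne, CharP.cast_eq_zero_iff K p]
      exact Nat.not_dvd_ordCompl Fact.out hN

end CfsgLib.JordanModular
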