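import Mathlib
import Cfsg.Agent.Lib.JordanModular.Linear

/-!
Jordan's theorem in characteristic `p`, relative to the order of a Sylow `p`-subgroup.
-/

set_option autoImplicit false

namespace CfsgLib.JordanModular

universe u v

theorem factorization_le_of_dvd {a b p : ℕ} (hb : b ≠ 0) (h : a ∣ b) : a.factorization p ≤ b.factorization p :=
  (Nat.factorization_le_iff_dvd (ne_zero_of_dvd_ne_zero hb h) hb).2 h p

theorem card_pGroup_le {p : ℕ} [Fact p.Prime] {H : Type*} [Group H] [Finite H] (hH : IsPGroup p H) {N m : ℕ}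
    (hN : N ≠ 0) (hdvd : Nat.card H ∣ N) (hm : N.factorization p ≤ m) : Nat.card H ≤ p ^ m := by
  obtain ⟨j, hj⟩ := IsPGroup.iff_card.1 hH
  rw [hj]
  exact Nat.pow_le_pow_right (Fact.out : p.Prime).pos
    (((Nat.Prime.pow_dvd_iff_le_factorization Fact.out hN).1 (hj ▸ hdvd)).trans hm)

/-- A group which is abelian modulo a small `p`-group of exponent `p` has a big abelian subgroup. -/
theorem abelian_of_commutators {p : ℕ} [Fact p.Prime] {H : Type u} [Group H] [Finite H] {N m : ℕ}
    (hN : N ≠ 0) (hdvd : Nat.card H ∣ N) (hm : N.factorization p ≤ m) (P U : Subgroup H) [U.Normal]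
    (hU : ∀ c ∈ U, c ^ p = 1) (hPU : ∀ a ∈ P, ∀ b ∈ P, a * b * a⁻¹ * b⁻¹ ∈ U) :
    ∃ A : Subgroup H, IsMulCommutative A ∧ A.index ≤ p ^ m * (P.index * (p ^ m) ^ (p ^ m)) := by
  classical
  have hUp : IsPGroup p U := fun c => ⟨1, Subtype.ext (by simpa using hU c c.2)⟩
  have hUcard : Nat.card U ≤ p ^ m := card_pGroup_le hUp hN ((Subgroup.card_subgroup_dvd_card U).trans hdvd) hm
  have hUC : (Subgroup.centralizer (U : Set H)).index ≤ (p ^ m) ^ (p ^ m) := by
    refine le_trans (Nat.card_le_card_of_injective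
      (fun q : H ⧸ Subgroup.centralizer (U : Set H) => fun c : U =>
        (⟨q.out * c * q.out⁻¹, (inferInstance : U.Normal).conj_mem c c.2 q.out⟩ : U)) ?_) ?_
    · intro q q' h
      rw [← QuotientGroup.out_eq' q, ← QuotientGroup.out_eq' q', QuotientGroup.eq, Subgroup.mem_centralizer_iff]
      intro c hc
      have h' : q.out * c * q.out⁻¹ = q'.out * c * q'.out⁻¹ := congrArg Subtype.val (congrFun h ⟨c, hc⟩)
      calc c * (q.out⁻¹ * q'.out) = q.out⁻¹ * (q.out * c * q.out⁻¹) * q'.out := by group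
        _ = q.out⁻¹ * (q'.out * c * q'.out⁻¹) * q'.out := by rw [h']
        _ = q.out⁻¹ * q'.out * c := by group
    · rw [Nat.card_fun]
      exact (Nat.pow_le_pow_left hUcard _).trans
        (Nat.pow_le_pow_right (pow_pos (Fact.out : p.Prime).pos m) hUcard)
  set C := P ⊓ Subgroup.centralizer (U : Set H)
  have hCi : C.index ≤ P.index * (p ^ m) ^ (p ^ m) :=
    Subgroup.index_inf_le.trans (Nat.mul_le_mul_left _ hUC)
  have hcentral : ∀ a : C, a ^ p ∈ Subgroup.center C := by
    intro a
    rw [Subgroup.mem_center_iff]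
    intro b
    set c := (a : H) * b * (a : H)⁻¹ * (b : H)⁻¹ with hc
    have hcU : c ∈ U := hPU a a.2.1 b b.2.1
    have hca : Commute c a := Subgroup.mem_centralizer_iff.1 a.2.2 c hcU
    have hpow : ∀ r : ℕ, (a : H) ^ r * b = c ^ r * b * (a : H) ^ r := by
      intro r
      induction r with
      | zero => simp
      | succ r ih =>
        calc (a : H) ^ (r + 1) * b = a * ((a : H) ^ r * b) := by rw [pow_succ']; group
          _ = (a * c ^ r) * b * (a : H) ^ r := by rw [ih]; group
          _ = (c ^ r * a) * b * (a : H) ^ r := by rw [(hca.pow_left r).eq]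
          _ = c ^ r * (a * b) * (a : H) ^ r := by group
          _ = c ^ r * (c * b * a) * (a : H) ^ r := by rw [hc]; group
          _ = c ^ (r + 1) * b * (a : H) ^ (r + 1) := by rw [pow_succ c r, pow_succ' (a : H) r]; group
    refine Subtype.ext ?_
    have := hpow p
    rw [hU c hcU, one_mul] at this
    simpa using this.symm
  refine ⟨(Subgroup.center C).map C.subtype, inferInstance, ?_⟩
  rw [Subgroup.index_map_subtype]
  refine Nat.mul_le_mul ?_ hCi
  have hq : IsPGroup p (C ⧸ Subgroup.center C) := fun x => by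
    obtain ⟨a, rfl⟩ := QuotientGroup.mk_surjective x
    exact ⟨1, by rw [pow_one, ← QuotientGroup.mk_pow, QuotientGroup.eq_one_iff]; exact hcentral a⟩
  exact card_pGroup_le hq hN
    ((Subgroup.card_quotient_dvd_card _).trans ((Subgroup.card_subgroup_dvd_card C).trans hdvd)) hm

/-- The abelian subgroup bound, by induction on the dimension. -/
def Bound (p n m N : ℕ) : Prop :=
  ∀ (K : Type v) [Field K] [IsAlgClosed K] [CharP K p] (G : Type u) [Group G] [Finite G]
    (V : Type v) [AddCommGroup V] [Module K V] [FiniteDimensional K V] (ρ : G →* Module.End K V),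
    Function.Injective ρ → Module.finrank K V ≤ n → (Nat.card G).factorization p ≤ m →
      ∃ A : Subgroup G, IsMulCommutative A ∧ A.index ≤ N

theorem preimage_bound {p n m N : ℕ} (hB : Bound.{u, v} p n m N) (K : Type v) [Field K] [IsAlgClosed K] [CharP K p]
    (H : Type u) [Group H] [Finite H] (V : Type v) [AddCommGroup V] [Module K V] [FiniteDimensional K V]
    (ψ : H →* Module.End K V) (hn : Module.finrank K V ≤ n) (hm : (Nat.card H).factorization p ≤ m) :
    ∃ P : Subgroup H, P.index ≤ N ∧ ∀ a ∈ P, ∀ b ∈ P, ψ (a * b * a⁻¹ * b⁻¹) = 1 := by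
  have hker : (ψ.toHomUnits).ker.Normal := inferInstance
  let ρ : H ⧸ ψ.toHomUnits.ker →* Module.End K V :=
    (Units.coeHom _).comp (QuotientGroup.kerLift ψ.toHomUnits)
  have hρ : Function.Injective ρ := fun a b h => QuotientGroup.kerLift_injective _ (Units.ext h)
  obtain ⟨A, hA, hi⟩ := hB K (H ⧸ ψ.toHomUnits.ker) V ρ hρ hn
    ((factorization_le_of_dvd Nat.card_pos.ne' (Subgroup.card_quotient_dvd_card _)).trans hm)
  refine ⟨A.comap (QuotientGroup.mk' _), by rwa [Subgroup.index_comap_of_surjective _ (QuotientGroup.mk'_surjective _)],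
    fun a ha b hb => ?_⟩
  have hab : QuotientGroup.mk' ψ.toHomUnits.ker a * QuotientGroup.mk' ψ.toHomUnits.ker b =
      QuotientGroup.mk' ψ.toHomUnits.ker b * QuotientGroup.mk' ψ.toHomUnits.ker a :=
    congrArg Subtype.val (hA.is_comm.comm ⟨_, ha⟩ ⟨_, hb⟩)
  have h1 : a * b * a⁻¹ * b⁻¹ ∈ ψ.toHomUnits.ker := by
    rw [← QuotientGroup.eq_one_iff (N := ψ.toHomUnits.ker), ← QuotientGroup.mk'_apply, map_mul, map_mul, map_mul,
      hab, mul_assoc _ _ (QuotientGroup.mk' _ a⁻¹), ← map_mul (QuotientGroup.mk' _) a, mul_inv_cancel, map_one,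
      mul_one, ← map_mul, mul_inv_cancel, map_one]
  exact congrArg Units.val (MonoidHom.mem_ker.1 h1)

/-- The reducible case. -/
theorem reducible {p n m N : ℕ} [Fact p.Prime] (hB : Bound.{u, v} p n m N) (K : Type v) [Field K] [IsAlgClosed K]
    [CharP K p] (H : Type u) [Group H] [Finite H] (V : Type v) [AddCommGroup V] [Module K V]
    [FiniteDimensional K V] (ρ : H →* Module.End K V) (hinj : Function.Injective ρ)
    (hn : Module.finrank K V ≤ n + 1) (hm : (Nat.card H).factorization p ≤ m)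
    (W : Submodule K V) (hW0 : W ≠ ⊥) (hW1 : W ≠ ⊤) (hW : ∀ g, ∀ v ∈ W, ρ g v ∈ W) :
    ∃ A : Subgroup H, IsMulCommutative A ∧ A.index ≤ p ^ m * (N * N * (p ^ m) ^ (p ^ m)) := by
  let σ : Representation K H V := ρ
  let ψ1 : H →* Module.End K W :=
    { toFun := fun g => (ρ g).restrict (hW g)
      map_one' := by ext v; simp
      map_mul' := fun g h => by ext v; simp }
  let ψ2 : H →* Module.End K (V ⧸ W) :=
    { toFun := fun g => W.mapQ W (ρ g) (hW g)
      map_one' := by ext v; simp
      map_mul' := fun g h => by ext v; simp }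
  have hr := W.finrank_quotient_add_finrank
  have hWpos : 0 < Module.finrank K W :=
    Nat.pos_of_ne_zero fun h => hW0 (Submodule.finrank_eq_zero.1 h)
  have hWlt := Submodule.finrank_lt hW1
  obtain ⟨P1, hP1, hc1⟩ := preimage_bound hB K H W ψ1 (by omega) hm
  obtain ⟨P2, hP2, hc2⟩ := preimage_bound hB K H (V ⧸ W) ψ2 (by omega) hm
  let U : Subgroup H := ψ1.toHomUnits.ker ⊓ ψ2.toHomUnits.ker
  have hU : ∀ c ∈ U, c ^ p = 1 := by
    rintro c ⟨h1, h2⟩
    refine hinj ?_
    rw [map_pow, map_one]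
    set x : Module.End K V := ρ c - 1 with hx
    have hxx : x * x = 0 := by
      refine LinearMap.ext fun v => ?_
      have hv : x v ∈ W := by
        have := LinearMap.congr_fun (congrArg Units.val (MonoidHom.mem_ker.1 h2)) (Submodule.Quotient.mk v)
        rw [hx, LinearMap.sub_apply, Module.End.one_apply, ← Submodule.Quotient.eq]
        simpa [ψ2] using this
      have := LinearMap.congr_fun (congrArg Units.val (MonoidHom.mem_ker.1 h1)) ⟨x v, hv⟩
      have h' : ρ c (x v) = x v := by simpa [ψ1] using congrArg Subtype.val this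
      rw [Module.End.mul_apply]
      show ρ c (x v) - x v = 0
      rw [h', sub_self]
    have hpow : ∀ r : ℕ, (1 + x) ^ r = 1 + r • x := by
      intro r
      induction r with
      | zero => simp
      | succ r ih => rw [pow_succ, ih, add_mul, one_mul, smul_mul_assoc, mul_add, mul_one, hxx, add_zero,
          succ_nsmul]; abel
    have := hpow p
    rwa [← Nat.cast_smul_eq_nsmul K, CharP.cast_eq_zero, zero_smul, add_zero, hx, add_sub_cancel] at this
  obtain ⟨A, hA, hi⟩ := abelian_of_commutators Nat.card_pos.ne' dvd_rfl hm (P1 ⊓ P2) U hU fun a ha b hb =>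
    ⟨MonoidHom.mem_ker.2 (Units.ext (hc1 a ha.1 b hb.1)), MonoidHom.mem_ker.2 (Units.ext (hc2 a ha.2 b hb.2))⟩
  exact ⟨A, hA, hi.trans (Nat.mul_le_mul_left _ (Nat.mul_le_mul_right _
    (Subgroup.index_inf_le.trans (Nat.mul_le_mul hP1 hP2))))⟩

theorem exists_bound (p : ℕ) [Fact p.Prime] : ∀ n m : ℕ, ∃ N : ℕ, 0 < N ∧ Bound.{u, v} p n m N := by
  intro n
  induction n with
  | zero =>
    intro m
    refine ⟨1, one_pos, fun K _ _ _ G _ _ V _ _ _ ρ hinj hn _ => ?_⟩
    haveI : Subsingleton V := Module.finrank_zero_iff.1 (Nat.le_zero.1 hn)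
    haveI : Subsingleton G := hinj.subsingleton
    exact ⟨⊤, .of_comm fun a b => Subsingleton.elim _ _, Subgroup.index_top.le⟩
  | succ n ih =>
    intro m
    obtain ⟨N, hN, hB⟩ := ih m
    set f := p ^ m * (N * N * (p ^ m) ^ (p ^ m)) with hf
    have hp : 0 < p := (Fact.out : p.Prime).pos
    have hfpos : 0 < f := by positivity
    obtain ⟨M, hM⟩ := exists_abelian_bound.{u} f ((n + 1) ^ (n + 1)) (f ^ ((n + 1) * (n + 1)) * p ^ m)
      (by positivity) hfpos (by positivity)
    refine ⟨max M 1, by positivity, fun K _ _ _ G _ _ V _ _ _ ρ hinj hn hm => ?_⟩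
    rcases subsingleton_or_nontrivial V with hV | hV
    · haveI : Subsingleton G := hinj.subsingleton
      exact ⟨⊤, .of_comm fun a b => Subsingleton.elim _ _, Subgroup.index_top.le.trans (le_max_right _ _)⟩
    obtain ⟨𝒮⟩ := setting_of_irreducible p (n + 1) m f hfpos ρ hinj hn (fun H W hW0 hW1 hW => by
      obtain ⟨A, hA, hi⟩ := reducible hB K H V (ρ.comp H.subtype) (hinj.comp Subtype.val_injective) hn
        ((factorization_le_of_dvd Nat.card_pos.ne' (Subgroup.card_subgroup_dvd_card H)).trans hm) W hW0 hW1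
        (fun g v hv => hW g g.2 v hv)
      refine ⟨A.map H.subtype, Subgroup.map_subtype_le A, inferInstance, ?_⟩
      rw [Subgroup.card_subtype, ← A.index_mul_card]
      exact Nat.mul_le_mul_right _ hi) hm
    obtain ⟨A, hA, hi⟩ := hM G 𝒮
    exact ⟨A, hA, hi.trans (le_max_left _ _)⟩

theorem exists_normal_bound (p : ℕ) [Fact p.Prime] (n m : ℕ) : ∃ N : ℕ, ∀ (G : Type u) [Group G] [Finite G]
    (F : Type v) [Field F] [CharP F p] (ρ : G →* Module.End F (Fin n → F)), Function.Injective ρ →
      (Nat.card G).factorization p ≤ m → ∃ A : Subgroup G, A.Normal ∧ IsMulCommutative A ∧ A.index < N := by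
  obtain ⟨N, -, hB⟩ := exists_bound.{u, v} p n m
  refine ⟨N.factorial + 1, fun G _ _ F _ _ ρ hinj hm => ?_⟩
  let L := AlgebraicClosure F
  haveI : CharP L p := charP_of_injective_algebraMap (algebraMap F L).injective p
  let ρ' : G →* Module.End L (Fin n → L) :=
    ((Matrix.toLinAlgEquiv' : Matrix (Fin n) (Fin n) L ≃ₐ[L] _).toAlgHom.toMonoidHom.comp
      ((algebraMap F L).mapMatrix.toMonoidHom.comp
        ((LinearMap.toMatrixAlgEquiv' : _ ≃ₐ[F] Matrix (Fin n) (Fin n) F).toAlgHom.toMonoidHom.comp ρ)))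
  have hinj' : Function.Injective ρ' :=
    (Matrix.toLinAlgEquiv'.injective).comp
      ((Matrix.map_injective (algebraMap F L).injective).comp (LinearMap.toMatrixAlgEquiv'.injective.comp hinj))
  obtain ⟨A, hA, hi⟩ := hB L G (Fin n → L) ρ' hinj' (by simp) hm
  refine ⟨A.normalCore, inferInstance, ?_, Nat.lt_succ_of_le ?_⟩
  · exact .of_comm fun a b => Subtype.ext
      (congrArg Subtype.val (hA.is_comm.comm ⟨a, A.normalCore_le a.2⟩ ⟨b, A.normalCore_le b.2⟩) :)
  · rw [Subgroup.normalCore_eq_ker, Subgroup.index_ker]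
    refine (Subgroup.card_le_card_group _).trans ?_
    rw [Nat.card_perm]
    exact Nat.factorial_le hi

end CfsgLib.JordanModular
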